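import Mathlib.FieldTheory.Galois.Profinite
import Mathlib.FieldTheory.Galois.Infinite
import Mathlib.FieldTheory.IsSepClosed
import Mathlib.RepresentationTheory.Homological.GroupCohomology.Hilbert90
import Mathlib.RingTheory.Trace.Basic

set_option autoImplicit false

/-!
# Hilbert 90 for locally constant cocycles
-/

universe u v

namespace GrothLib.GalH90

variable {K L : Type u} [Field K] [Field L] [Algebra K L] [IsGalois K L]

open scoped Topology in
theorem exists_finite_level {X : Type v} (a : (L ≃ₐ[K] L) → X) (hlc : IsLocallyConstant a) :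
    ∃ E : FiniteGaloisIntermediateField K L, ∀ σ, ∀ τ ∈ E.toIntermediateField.fixingSubgroup, a (σ * τ) = a σ := by
  classical
  have h : ∀ σ, ∃ E : FiniteGaloisIntermediateField K L,
      ∀ τ ∈ E.toIntermediateField.fixingSubgroup, a (σ * τ) = a σ := fun σ => by
    have hV : (fun τ => σ * τ) ⁻¹' (a ⁻¹' {a σ}) ∈ 𝓝 (1 : L ≃ₐ[K] L) :=
      ((hlc {a σ}).preimage (continuous_const_mul σ)).mem_nhds (by simp)
    obtain ⟨E, hE⟩ := (InfiniteGalois.krullTopology_mem_nhds_one_iff_of_isGalois _).1 hV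
    exact ⟨E, fun τ hτ => hE hτ⟩
  choose E hE using h
  have hopen : ∀ σ, IsOpen ((fun τ => σ⁻¹ * τ) ⁻¹' (E σ).toIntermediateField.fixingSubgroup : Set (L ≃ₐ[K] L)) :=
    fun σ => (IntermediateField.fixingSubgroup_isOpen _).preimage (continuous_const_mul _)
  obtain ⟨t, ht⟩ := isCompact_univ.elim_finite_subcover _ hopen fun σ _ =>
    Set.mem_iUnion.2 ⟨σ, by simp [one_mem]⟩
  refine ⟨t.sup E, fun σ τ hτ => ?_⟩
  obtain ⟨σ₀, hσ₀, hσ⟩ := Set.mem_iUnion₂.1 (ht (Set.mem_univ σ))
  have hle : (E σ₀).toIntermediateField ≤ (t.sup E).toIntermediateField := Finset.le_sup (f := E) hσ₀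
  have hτ' : τ ∈ (E σ₀).toIntermediateField.fixingSubgroup := IntermediateField.fixingSubgroup_le hle hτ
  have h1 := hE σ₀ _ hσ
  have h2 := hE σ₀ _ (mul_mem (show σ₀⁻¹ * σ ∈ _ from hσ) hτ')
  rw [← mul_assoc, mul_inv_cancel_left] at h2
  rw [mul_inv_cancel_left] at h1
  rw [h2, h1]

variable (E : FiniteGaloisIntermediateField K L)

theorem exists_conj (σ τ : L ≃ₐ[K] L) (hτ : τ ∈ E.toIntermediateField.fixingSubgroup) :
    ∃ τ' ∈ E.toIntermediateField.fixingSubgroup, τ * σ = σ * τ' := by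
  refine ⟨σ⁻¹ * τ * σ, ?_, by group⟩
  rw [← IntermediateField.restrictNormalHom_ker, MonoidHom.mem_ker] at hτ ⊢
  rw [map_mul, map_mul, hτ, mul_one, map_inv, inv_mul_cancel]

theorem eq_of_restrict {X : Type v} {a : (L ≃ₐ[K] L) → X}
    (hE : ∀ σ, ∀ τ ∈ E.toIntermediateField.fixingSubgroup, a (σ * τ) = a σ) (σ τ : L ≃ₐ[K] L)
    (h : AlgEquiv.restrictNormalHom E σ = AlgEquiv.restrictNormalHom E τ) : a σ = a τ := by
  have := hE σ (σ⁻¹ * τ) (by
    rw [← IntermediateField.restrictNormalHom_ker, MonoidHom.mem_ker, map_mul, map_inv, h, inv_mul_cancel])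
  rw [mul_inv_cancel_left] at this
  exact this.symm

theorem mem_of_fixed {x : L} (h : ∀ τ ∈ E.toIntermediateField.fixingSubgroup, τ x = x) :
    x ∈ E.toIntermediateField := by
  rw [← InfiniteGalois.fixedField_fixingSubgroup E.toIntermediateField, IntermediateField.mem_fixedField_iff]
  exact h

theorem exists_units {a : (L ≃ₐ[K] L) → Lˣ} (ha : ∀ σ τ, a (σ * τ) = a σ * σ • a τ)
    (hlc : IsLocallyConstant a) : ∃ c : Lˣ, ∀ σ : L ≃ₐ[K] L, a σ = c⁻¹ * σ • c := by
  classical
  obtain ⟨E, hE⟩ := exists_finite_level a hlc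
  have ha1 : a 1 = 1 := by simpa using ha 1 1
  have hfix : ∀ σ, ∀ τ ∈ E.toIntermediateField.fixingSubgroup, τ ((a σ : L)) = a σ := fun σ τ hτ => by
    obtain ⟨τ', hτ', hconj⟩ := exists_conj E σ τ hτ
    have h1 := ha τ σ
    rw [hconj, hE σ τ' hτ', show a τ = 1 by simpa [ha1] using hE 1 τ hτ, one_mul] at h1
    exact (congrArg Units.val h1).symm
  have hmem : ∀ σ, (a σ : L) ∈ E.toIntermediateField := fun σ => mem_of_fixed E (hfix σ)
  choose s hs using AlgEquiv.restrictNormalHom_surjective (F := K) (K₁ := E) L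
  let f : (E ≃ₐ[K] E) → (↥E.toIntermediateField)ˣ := fun g =>
    Units.mk0 ⟨(a (s g) : L), hmem _⟩ fun h => (a (s g)).ne_zero (congrArg Subtype.val h)
  have hres : ∀ (σ : L ≃ₐ[K] L) (x : E), (AlgEquiv.restrictNormalHom E σ x : L) = σ x := fun σ x =>
    AlgEquiv.restrictNormal_commutes σ E x
  have hf : groupCohomology.IsMulCocycle₁ f := fun g g' => by
    refine Units.ext (Subtype.ext ?_)
    show (a (s (g * g')) : L) = (g • f g' : (↥E.toIntermediateField)ˣ).val.1 * (a (s g) : L)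
    rw [eq_of_restrict E hE (s (g * g')) (s g * s g') (by rw [map_mul, hs, hs, hs]), ha]
    conv_rhs => arg 1; rw [← hs g]
    simp only [Units.val_mul, AlgEquiv.smul_units_def, Units.coe_map, MonoidHom.coe_coe]
    rw [mul_comm, hres]
    rfl
  obtain ⟨β, hβ⟩ := groupCohomology.isMulCoboundary₁_of_isMulCocycle₁_of_aut_to_units f hf
  refine ⟨Units.map (E.toIntermediateField.val : E →* L) β, fun σ => ?_⟩
  have h := congrArg (fun u : (↥E.toIntermediateField)ˣ => (u : E).1) (hβ (AlgEquiv.restrictNormalHom E σ))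
  simp only [div_eq_mul_inv, Units.val_mul, AlgEquiv.smul_units_def, Units.coe_map, MonoidHom.coe_coe,
    IntermediateField.coe_mul, Units.val_inv_eq_inv_val, IntermediateField.coe_inv, hres] at h
  refine Units.ext ?_
  simp only [Units.val_mul, AlgEquiv.smul_units_def, Units.coe_map, MonoidHom.coe_coe, Units.val_inv_eq_inv_val]
  rw [eq_of_restrict E hE σ (s (AlgEquiv.restrictNormalHom E σ)) (hs _).symm, mul_comm]
  exact h.symm

theorem exists_additive {a : (L ≃ₐ[K] L) → L} (ha : ∀ σ τ, a (σ * τ) = a σ + σ (a τ))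
    (hlc : IsLocallyConstant a) : ∃ y : L, ∀ σ : L ≃ₐ[K] L, a σ = σ y - y := by
  classical
  obtain ⟨E, hE⟩ := exists_finite_level a hlc
  choose s hs using AlgEquiv.restrictNormalHom_surjective (F := K) (K₁ := E) L
  have hres : ∀ (σ : L ≃ₐ[K] L) (x : E), (AlgEquiv.restrictNormalHom E σ x : L) = σ x := fun σ x =>
    AlgEquiv.restrictNormal_commutes σ E x
  obtain ⟨x, hx⟩ := Algebra.trace_surjective K E 1
  refine ⟨-∑ g : E ≃ₐ[K] E, a (s g) * (g x : L), fun σ => ?_⟩
  have h1 : ∑ g : E ≃ₐ[K] E, (g x : L) = 1 := by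
    have := congrArg E.toIntermediateField.val (trace_eq_sum_automorphisms (K := K) x)
    rw [hx, map_one, map_one, map_sum] at this
    exact this.symm
  have h2 : σ (∑ g : E ≃ₐ[K] E, a (s g) * (g x : L)) =
      ∑ g : E ≃ₐ[K] E, (a (s g) - a σ) * (g x : L) := by
    rw [map_sum]
    refine Fintype.sum_bijective (fun g => AlgEquiv.restrictNormalHom E σ * g) (Group.mulLeft_bijective _) _ _
      fun g => ?_
    rw [map_mul, eq_of_restrict E hE (s (AlgEquiv.restrictNormalHom E σ * g)) (σ * s g)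
        (by rw [map_mul, hs, hs]), ha, add_sub_cancel_left, AlgEquiv.mul_apply, hres]
  rw [map_neg, h2]
  simp only [sub_mul, Finset.sum_sub_distrib, ← Finset.mul_sum, h1, mul_one]
  ring

end GrothLib.GalH90
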